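import Cfsg.Agent.PSLEleven.Basic
import Cfsg.Agent.SL2Tori.Basic

/-!
# Two classes of eleven subgroups `A₅` in `PSL(2, 11)`
-/

set_option autoImplicit false
set_option linter.unusedSectionVars false

namespace CfsgLib.PSLEleven

open Matrix CfsgLib.SL2Trace
open scoped MatrixGroups Pointwise

variable {F : Type*} [Field F] [CharP F 11] [Fintype F]

local notation "L" => Matrix.ProjectiveSpecialLinearGroup (Fin 2) F

/-- The subgroup generated by `qx` and the coded element `y`. -/
def subOf (F : Type*) [Field F] [CharP F 11] (y : Code) :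
    Subgroup (Matrix.ProjectiveSpecialLinearGroup (Fin 2) F) :=
  Subgroup.closure {toP qx, toP y}

theorem valid_qx : valid qx = true := rfl

theorem qx_facts : (toP qx : L) ^ 3 = 1 ∧ (toP qx : L) ≠ 1 := by
  have h := relations
  simp only [Bool.and_eq_true, Bool.not_eq_true'] at h
  obtain ⟨⟨-, h1⟩, h2⟩ := h
  refine ⟨?_, fun e => by rw [(toP_eq_one_iff valid_qx).1 e] at h1; simp at h1⟩
  rw [pow_three, ← toP_qmul valid_qx valid_qx, ← toP_qmul valid_qx (valid_qmul valid_qx valid_qx),
    toP_eq_one_iff (valid_qmul valid_qx (valid_qmul valid_qx valid_qx))]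
  exact h2

theorem isPartner_iff {y : Code} (hy : valid y = true) :
    isPartner y = true ↔ (toP y : L) ≠ 1 ∧ (toP y : L) ^ 5 = 1 ∧ ((toP qx : L) * toP y) ^ 2 = 1 := by
  have v2 := valid_qmul hy hy
  have v3 := valid_qmul hy v2
  have v4 := valid_qmul hy v3
  have vxy := valid_qmul valid_qx hy
  rw [isPartner, Bool.and_eq_true, Bool.and_eq_true, Bool.not_eq_true', ← Bool.not_eq_true,
    ← toP_eq_one_iff (F := F) hy, ← toP_eq_one_iff (F := F) (valid_qmul hy v4),
    ← toP_eq_one_iff (F := F) (valid_qmul vxy vxy), toP_qmul hy v4, toP_qmul hy v3, toP_qmul hy v2,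
    toP_qmul hy hy, toP_qmul vxy vxy, toP_qmul valid_qx hy, and_assoc]
  simp only [pow_succ, pow_zero, one_mul, mul_assoc, ne_eq]

theorem subOf_iso {y : Code} (hy : valid y = true) (h : isPartner y = true) :
    Nonempty (subOf F y ≃* alternatingGroup (Fin 5)) := by
  obtain ⟨-, h5, h2⟩ := (isPartner_iff (F := F) hy).1 h
  exact closure_pair_iso _ _ qx_facts.1 h5 h2 qx_facts.2

theorem coe_subOf (y : Code) (hy : valid y = true) (hp : isPartner y = true) (l : List Code)
    (hl : l.all valid = true) (hlen : l.length = 60) (h1 : pmem qone l = true)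
    (hc : l.all (fun h => pmem (qmul h qx) l && pmem (qmul h y) l) = true) :
    (subOf F y : Set L) = pset l := by
  classical
  obtain ⟨e⟩ := subOf_iso (F := F) hy hp
  have hsub : (subOf F y : Set L) ⊆ pset l := by
    intro z hz
    have hz' : z ∈ Submonoid.closure ({toP qx, toP y} : Set L) := by
      rw [← Subgroup.closure_toSubmonoid_of_finite]; exact hz
    induction hz' using Submonoid.closure_induction_right with
    | one =>
      rw [← toP_qone]
      exact (toP_mem_pset (by rfl) hl).2 h1
    | mul_right x hx w hw ih =>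
      obtain ⟨q, hq, rfl⟩ := ih (by
        show x ∈ subOf F y
        rw [subOf, ← Subgroup.mem_toSubmonoid, Subgroup.closure_toSubmonoid_of_finite]
        exact hx)
      have hqv := List.all_eq_true.1 hl q hq
      have hc' := List.all_eq_true.1 hc q hq
      rw [Bool.and_eq_true] at hc'
      rcases hw with rfl | rfl
      · rw [← toP_qmul hqv valid_qx]
        exact (toP_mem_pset (valid_qmul hqv valid_qx) hl).2 hc'.1
      · rw [← toP_qmul hqv hy]
        exact (toP_mem_pset (valid_qmul hqv hy) hl).2 hc'.2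
  have hfin : (pset l : Set L) = (l.toFinset.image toP : Finset L) := by
    ext z; simp [pset]
  refine Set.eq_of_subset_of_ncard_le hsub ?_ (Set.toFinite _)
  rw [hfin, Set.ncard_coe_finset, ← Nat.card_coe_set_eq]
  refine (Finset.card_image_le.trans ((List.toFinset_card_le l).trans hlen.le)).trans ?_
  exact le_of_eq ((Nat.card_congr e.toEquiv).trans card_alt_five).symm

/-- The first subgroup. -/
abbrev subH (F : Type*) [Field F] [CharP F 11] := subOf F qy

/-- The second subgroup. -/
abbrev subK (F : Type*) [Field F] [CharP F 11] := subOf F qz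

theorem data : listH.all valid = true ∧ listK.all valid = true ∧ listC.all valid = true ∧
    isPartner qy = true ∧ isPartner qz = true := by
  have h1 := valid_lists
  have h2 := relations
  simp only [Bool.and_eq_true] at h1 h2
  exact ⟨h1.1.1, h1.1.2, h1.2, h2.1.1.1, h2.1.1.2⟩

theorem mem_subH {x : Code} (hx : valid x = true) : toP x ∈ subH F ↔ pmem x listH = true := by
  have h := closed_lists
  simp only [Bool.and_eq_true] at h
  rw [← SetLike.mem_coe, subH, coe_subOf (F := F) qy (by rfl) data.2.2.2.1 listH data.1 length_lists.1 h.1.1.1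
    (List.all_eq_true.2 fun q hq => by simpa using List.all_eq_true.1 h.1.2 q hq)]
  exact toP_mem_pset hx data.1

theorem mem_subK {x : Code} (hx : valid x = true) : toP x ∈ subK F ↔ pmem x listK = true := by
  have h := closed_lists
  simp only [Bool.and_eq_true] at h
  rw [← SetLike.mem_coe, subK, coe_subOf (F := F) qz (by rfl) data.2.2.2.2 listK data.2.1 length_lists.2 h.1.1.2
    (List.all_eq_true.2 fun q hq => by simpa using List.all_eq_true.1 h.2 q hq)]
  exact toP_mem_pset hx data.2.1

theorem isConj_qx (hF : Fintype.card F = 11) (x : L) (hx : x ^ 3 = 1) (hne : x ≠ 1) :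
    ∃ g : L, g * x * g⁻¹ = toP qx := by
  obtain ⟨X0, rfl⟩ := proj_surjective x
  have h3 : X0 ^ 3 = 1 ∨ X0 ^ 3 = -1 := (proj_eq_one_iff _).1 (by
    show QuotientGroup.mk' _ (X0 ^ 3) = 1
    rw [map_pow]; exact hx)
  obtain ⟨X, hX, hX3⟩ : ∃ X : SL(2, F), proj X = proj X0 ∧ X ^ 3 = -1 := by
    rcases h3 with h | h
    · refine ⟨-X0, proj_neg _, Subtype.ext ?_⟩
      rw [Matrix.SpecialLinearGroup.coe_pow, Matrix.SpecialLinearGroup.coe_neg, Odd.neg_pow (by decide),
        ← Matrix.SpecialLinearGroup.coe_pow, h]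
      simp
    · exact ⟨X0, rfl, h⟩
  have hns : NonScalar (X : Matrix (Fin 2) (Fin 2) F) := nonScalar_of_proj_ne_one (by rwa [hX])
  set t := Matrix.trace (X : Matrix (Fin 2) (Fin 2) F) with ht
  have hc := cayley X t rfl
  have hsq : (X : Matrix (Fin 2) (Fin 2) F) ^ 2 = t • (X : Matrix (Fin 2) (Fin 2) F) - 1 := by
    linear_combination (norm := abel) hc
  have h3' := congrArg (fun M : SL(2, F) => (M : Matrix (Fin 2) (Fin 2) F)) hX3
  simp only [Matrix.SpecialLinearGroup.coe_pow, Matrix.SpecialLinearGroup.coe_neg,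
    Matrix.SpecialLinearGroup.coe_one] at h3'
  have hlin : (-t) • (1 : Matrix (Fin 2) (Fin 2) F) + (t * t - 1) • (X : Matrix (Fin 2) (Fin 2) F) =
      (-1 : F) • 1 + (0 : F) • (X : Matrix (Fin 2) (Fin 2) F) := by
    rw [zero_smul, add_zero, neg_one_smul, ← h3', pow_succ, hsq, sub_mul, one_mul, smul_mul_assoc,
      ← pow_two (X : Matrix (Fin 2) (Fin 2) F), hsq, smul_sub, smul_smul, sub_smul, one_smul, neg_smul]
    abel
  obtain ⟨ht1, -⟩ := CfsgLib.SL2Tori.coeff_unique hns hlin
  have ht' : t = 1 := neg_injective ht1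
  have hqx : (toSL qx : SL(2, F)) = companion 1 := Subtype.ext (by
    rw [coe_toSL valid_qx]
    have : ((10 : ℕ) : F) = -1 := by
      have := cast_sub (F := F) (b := 1) (by norm_num)
      norm_num at this
      exact_mod_cast this
    ext i j; fin_cases i <;> fin_cases j <;> simp [toMat, qx, companion] <;> exact_mod_cast this)
  have h4 : (1 : F) ^ 2 ≠ 4 := fun e => by
    have : ((3 : ℕ) : F) = ((0 : ℕ) : F) := by push_cast; linear_combination -e
    exact absurd ((CharP.natCast_eq_natCast F 11).1 this) (by decide)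
  have hcj : IsConj (proj X) (toP qx : L) := by
    rw [toP, hqx]
    refine isConj_proj_of_trace X _ ?_ (Or.inl ?_)
    · simpa [companion, Matrix.trace_fin_two] using h4
    · rw [← ht, ht']
      simp [companion, Matrix.trace_fin_two]
  rw [hX] at hcj
  exact isConj_iff.1 hcj

theorem conj_smul_closure (g a b : L) :
    MulAut.conj g • Subgroup.closure ({a, b} : Set L) = Subgroup.closure {g * a * g⁻¹, g * b * g⁻¹} := by
  show (Subgroup.closure ({a, b} : Set L)).map (MulAut.conj g).toMonoidHom = _
  rw [MonoidHom.map_closure]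
  congr 1
  simp [Set.image_pair]

/-- Every subgroup isomorphic to `A₅` is conjugate to one of the two. -/
theorem exists_conj (hF : Fintype.card F = 11) (M : Subgroup L) (hM : Nonempty (M ≃* alternatingGroup (Fin 5))) :
    ∃ g : L, MulAut.conj g • M = subH F ∨ MulAut.conj g • M = subK F := by
  obtain ⟨x, y, hx, hy, hxy, hne, hne', hgen⟩ := exists_pair M hM
  obtain ⟨g, hg⟩ := isConj_qx hF x hx hne
  obtain ⟨w, hw, hwy⟩ := exists_code hF (g * y * g⁻¹)
  have hwp : isPartner w = true := by
    rw [isPartner_iff (F := F) hw, hwy, ← hg]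
    refine ⟨fun e => hne' (conj_eq_one_iff.1 e), by rw [conj_pow, hy]; simp, ?_⟩
    rw [show g * x * g⁻¹ * (g * y * g⁻¹) = g * (x * y) * g⁻¹ by group, conj_pow, hxy]
    simp
  have h := List.all_eq_true.1 partners w (mem_tuples hw)
  simp only [hw, hwp, Bool.and_self, if_true, List.any_eq_true, Bool.or_eq_true] at h
  obtain ⟨c, hc, hcy⟩ := h
  have hcv := List.all_eq_true.1 data.2.2.1 c hc
  have hcx : toP c * toP qx * (toP c)⁻¹ = (toP qx : L) := by
    rw [← toP_qconj hcv valid_qx]
    exact (toP_eq_iff (valid_qconj hcv valid_qx) valid_qx).2 (List.all_eq_true.1 centralizer_list c hc)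
  refine ⟨toP c * g, ?_⟩
  have hsm : MulAut.conj (toP c * g) • M = Subgroup.closure ({toP qx, toP (qconj c w)} : Set L) := by
    rw [← hgen, conj_smul_closure, toP_qconj hcv hw, hwy]
    have e1 : toP c * g * x * (toP c * g)⁻¹ = (toP qx : L) := by
      rw [← hcx, ← hg]; group
    rw [e1]
    congr 2
    rw [Set.singleton_eq_singleton_iff]
    group
  have hsub : ∀ {z : Code}, valid z = true → isPartner z = true → toP (qconj c w) ∈ subOf F z →
      MulAut.conj (toP c * g) • M = subOf F z := by
    intro z hz hzp hm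
    obtain ⟨e⟩ := subOf_iso (F := F) hz hzp
    obtain ⟨eM⟩ := hM
    refine Subgroup.eq_of_le_of_card_ge ?_ ?_
    · rw [hsm, Subgroup.closure_le]
      rintro u (rfl | rfl)
      · exact Subgroup.subset_closure (Or.inl rfl)
      · exact hm
    · rw [Nat.card_congr e.toEquiv, ← Nat.card_congr eM.toEquiv]
      exact le_of_eq (Nat.card_congr (Subgroup.equivSMul (MulAut.conj (toP c * g)) M).toEquiv)
  rcases hcy with hcy | hcy
  · exact Or.inl (hsub (z := qy) (by rfl) data.2.2.2.1 ((mem_subH (valid_qconj hcv hw)).2 hcy))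
  · exact Or.inr (hsub (z := qz) (by rfl) data.2.2.2.2 ((mem_subK (valid_qconj hcv hw)).2 hcy))

theorem not_conj (hF : Fintype.card F = 11) (g : L) : MulAut.conj g • subH F ≠ subK F := by
  intro e
  obtain ⟨q, hq, rfl⟩ := exists_code hF g
  have h := List.all_eq_true.1 not_conjugate q (mem_tuples hq)
  simp only [hq, if_true, Bool.not_eq_true', Bool.and_eq_false_iff] at h
  have hm : ∀ z, valid z = true → (toP z : L) ∈ subH F → pmem (qconj q z) listK = true := by
    intro z hz hzm
    rw [← mem_subK (F := F) (valid_qconj hq hz), ← e, toP_qconj hq hz]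
    exact Subgroup.smul_mem_pointwise_smul _ (MulAut.conj (toP q)) _ hzm
  rcases h with h | h
  · rw [hm qx valid_qx (Subgroup.subset_closure (Or.inl rfl))] at h; simp at h
  · rw [hm qy (by rfl) (Subgroup.subset_closure (Or.inr rfl))] at h; simp at h

theorem index_subH (hF : Fintype.card F = 11) : (subH F).index = 11 := by
  obtain ⟨e⟩ := subOf_iso (F := F) (y := qy) (by rfl) data.2.2.2.1
  have h := (subH F).card_mul_index
  rw [card_psl hF, Nat.card_congr e.toEquiv, card_alt_five] at h
  omega

theorem card_conjugates (hF : Fintype.card F = 11) {y : Code} (hy : valid y = true) (hp : isPartner y = true)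
    (hmove : ∃ g : L, MulAut.conj g • subOf F y ≠ subOf F y) :
    Nat.card {M : Subgroup L // ∃ g : L, MulAut.conj g • subOf F y = M} = 11 := by
  obtain ⟨e⟩ := subOf_iso (F := F) hy hp
  letI : MulAction L (Subgroup L) := MulAction.compHom (Subgroup L) (MulAut.conj (G := L))
  have hsmul : ∀ (g : L) (M : Subgroup L), g • M = MulAut.conj g • M := fun g M => rfl
  have h1 : Nat.card {M : Subgroup L // ∃ g : L, MulAut.conj g • subOf F y = M} =
      (MulAction.orbit L (subOf F y)).ncard := rfl
  rw [h1, ← MulAction.index_stabilizer]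
  set N := MulAction.stabilizer L (subOf F y)
  have hle : subOf F y ≤ N := fun h hh => by
    show h • subOf F y = subOf F y
    rw [hsmul]
    ext z
    rw [Subgroup.mem_pointwise_smul_iff_inv_smul_mem, ← map_inv, MulAut.smul_def, MulAut.conj_apply, inv_inv]
    constructor
    · intro hz
      have := mul_mem (mul_mem hh hz) (inv_mem hh)
      simpa [mul_assoc] using this
    · intro hz
      exact mul_mem (mul_mem (inv_mem hh) hz) hh
  have hi : (subOf F y).index = 11 := by
    have h := (subOf F y).card_mul_index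
    rw [card_psl hF, Nat.card_congr e.toEquiv, card_alt_five] at h
    omega
  have hdvd : N.index ∣ 11 := hi ▸ Subgroup.index_dvd_of_le hle
  rcases (Nat.dvd_prime (by norm_num)).1 hdvd with h | h
  · exfalso
    obtain ⟨g, hg⟩ := hmove
    refine hg ?_
    have : g ∈ N := (Subgroup.index_eq_one.1 h).symm ▸ Subgroup.mem_top g
    exact this
  · exact h

theorem conj_pred {G : Type*} [Group G] {P Q : Subgroup G} (g : G) (h : MulAut.conj g • P = Q) :
    MulAut.conj g⁻¹ • Q = P := by
  rw [← h, map_inv, inv_smul_smul]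

theorem card_all (hF : Fintype.card F = 11) :
    Nat.card {M : Subgroup L // Nonempty (M ≃* alternatingGroup (Fin 5))} = 22 := by
  classical
  have ht := translations
  simp only [Bool.and_eq_true, Bool.not_eq_true', Bool.and_eq_false_iff] at ht
  obtain ⟨⟨-, tH⟩, tK⟩ := ht
  have hu : valid (qu 1) = true := rfl
  have moveH : ∃ g : L, MulAut.conj g • subH F ≠ subH F := by
    refine ⟨toP (qu 1), fun e => ?_⟩
    have hm : ∀ z, valid z = true → (toP z : L) ∈ subH F → pmem (qconj (qu 1) z) listH = true := by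
      intro z hz hzm
      rw [← mem_subH (F := F) (valid_qconj hu hz), ← e, toP_qconj hu hz]
      exact Subgroup.smul_mem_pointwise_smul _ (MulAut.conj (toP (qu 1))) _ hzm
    rcases tH with h | h
    · rw [hm qx valid_qx (Subgroup.subset_closure (Or.inl rfl))] at h; simp at h
    · rw [hm qy (by rfl) (Subgroup.subset_closure (Or.inr rfl))] at h; simp at h
  have moveK : ∃ g : L, MulAut.conj g • subK F ≠ subK F := by
    refine ⟨toP (qu 1), fun e => ?_⟩
    have hm : ∀ z, valid z = true → (toP z : L) ∈ subK F → pmem (qconj (qu 1) z) listK = true := by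
      intro z hz hzm
      rw [← mem_subK (F := F) (valid_qconj hu hz), ← e, toP_qconj hu hz]
      exact Subgroup.smul_mem_pointwise_smul _ (MulAut.conj (toP (qu 1))) _ hzm
    rcases tK with h | h
    · rw [hm qx valid_qx (Subgroup.subset_closure (Or.inl rfl))] at h; simp at h
    · rw [hm qz (by rfl) (Subgroup.subset_closure (Or.inr rfl))] at h; simp at h
  have cH := card_conjugates hF (y := qy) (by rfl) data.2.2.2.1 moveH
  have cK := card_conjugates hF (y := qz) (by rfl) data.2.2.2.2 moveK
  rw [← Nat.card_congr (Equiv.sumCompl fun M : {M : Subgroup L // Nonempty (M ≃* alternatingGroup (Fin 5))} =>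
    ∃ g : L, MulAut.conj g • subH F = M.1), Nat.card_sum]
  have isoH : ∀ g : L, Nonempty ((MulAut.conj g • subH F : Subgroup L) ≃* alternatingGroup (Fin 5)) := fun g =>
    (subOf_iso (F := F) (y := qy) (by rfl) data.2.2.2.1).map ((Subgroup.equivSMul _ _).symm.trans ·)
  have isoK : ∀ g : L, Nonempty ((MulAut.conj g • subK F : Subgroup L) ≃* alternatingGroup (Fin 5)) := fun g =>
    (subOf_iso (F := F) (y := qz) (by rfl) data.2.2.2.2).map ((Subgroup.equivSMul _ _).symm.trans ·)
  have e1 : Nat.card {M : {M : Subgroup L // Nonempty (M ≃* alternatingGroup (Fin 5))} //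
      ∃ g : L, MulAut.conj g • subH F = M.1} = 11 := by
    rw [← cH]
    exact Nat.card_congr
      { toFun := fun M => ⟨M.1.1, M.2⟩
        invFun := fun M => ⟨⟨M.1, by obtain ⟨g, hg⟩ := M.2; exact hg ▸ isoH g⟩, M.2⟩
        left_inv := fun M => rfl
        right_inv := fun M => rfl }
  have e2 : Nat.card {M : {M : Subgroup L // Nonempty (M ≃* alternatingGroup (Fin 5))} //
      ¬ ∃ g : L, MulAut.conj g • subH F = M.1} = 11 := by
    rw [← cK]
    exact Nat.card_congr
      { toFun := fun M => ⟨M.1.1, by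
          obtain ⟨g, hg | hg⟩ := exists_conj hF M.1.1 M.1.2
          · exact absurd ⟨g⁻¹, conj_pred g hg⟩ M.2
          · exact ⟨g⁻¹, conj_pred g hg⟩⟩
        invFun := fun M => ⟨⟨M.1, by obtain ⟨g, hg⟩ := M.2; exact hg ▸ isoK g⟩, by
          rintro ⟨h, hh⟩
          obtain ⟨g, hg⟩ := M.2
          exact not_conj hF (g⁻¹ * h) (by
            rw [map_mul, mul_smul, hh]
            exact conj_pred g hg)⟩
        left_inv := fun M => rfl
        right_inv := fun M => rfl }
  rw [e1, e2]

theorem two_pretransitive (hF : Fintype.card F = 11) :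
    MulAction.IsMultiplyPretransitive L (L ⧸ subH F) 2 := by
  classical
  have ht := translations
  simp only [Bool.and_eq_true, List.all_eq_true, List.mem_range, Bool.not_eq_true', List.any_eq_true] at ht
  obtain ⟨⟨hi, -⟩, -⟩ := ht
  have hu : ∀ i, valid (qu i) = true := fun i => by
    have : i % 11 < 11 := Nat.mod_lt _ (by norm_num)
    simp only [qu]
    generalize i % 11 = j at this ⊢
    revert j
    decide +kernel
  set u : L := toP (qu 1) with hu1
  have hpow : ∀ i, u ^ i = (toP (qu i) : L) := by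
    intro i
    induction i with
    | zero => rw [pow_zero]; exact toP_qone.symm
    | succ i ih =>
      rw [pow_succ, ih, hu1, ← toP_qmul (hu i) (hu 1)]
      congr 1
      simp [qu, qmul, Nat.add_mod, add_comm]
  have hu11 : u ^ 11 = 1 := by
    rw [hpow, show qu 11 = qone from rfl, toP_qone]
  have hnotmem : ∀ k, 1 ≤ k → k < 11 → u ^ k ∉ subH F := fun k h1 h2 hm => by
    rw [hpow, mem_subH (hu k)] at hm
    have := (hi (k - 1) (by omega)).1
    rw [Nat.sub_add_cancel h1, hm] at this
    simp at this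
  -- the powers of `u` form a transversal
  let b : Fin 11 → L ⧸ subH F := fun i => ((u ^ (i : ℕ) : L) : L ⧸ subH F)
  have hb : Function.Bijective b := by
    refine (Fintype.bijective_iff_injective_and_card b).2 ⟨fun i j e => ?_, ?_⟩
    · rw [QuotientGroup.eq] at e
      by_contra hne
      rcases Nat.lt_or_gt_of_ne (fun h => hne (Fin.ext h)) with h | h
      · refine hnotmem (j.val - i.val) (by omega) (by omega) ?_
        have : u ^ (j.val - i.val) = (u ^ (i : ℕ))⁻¹ * u ^ (j : ℕ) := by
          rw [eq_inv_mul_iff_mul_eq, ← pow_add, Nat.add_sub_cancel' h.le]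
        rw [this]; exact e
      · refine hnotmem (i.val - j.val) (by omega) (by omega) ?_
        have : u ^ (i.val - j.val) = ((u ^ (i : ℕ))⁻¹ * u ^ (j : ℕ))⁻¹ := by
          rw [_root_.mul_inv_rev, inv_inv, eq_inv_mul_iff_mul_eq, ← pow_add, Nat.add_sub_cancel' h.le]
        rw [this]; exact inv_mem e
    · rw [← Nat.card_eq_fintype_card, ← Nat.card_eq_fintype_card, ← Subgroup.index_eq_card, index_subH hF,
        Nat.card_fin]
  set o : L ⧸ subH F := ((1 : L) : L ⧸ subH F)
  have hstab : ∀ x : L ⧸ subH F, x ≠ o → ∃ h : L, h • o = o ∧ h • (u • o) = x := by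
    intro x hx
    obtain ⟨i, rfl⟩ := hb.2 x
    have hi0 : 1 ≤ i.val := by
      by_contra h
      apply hx
      show ((u ^ (i : ℕ) : L) : L ⧸ subH F) = ((1 : L) : L ⧸ subH F)
      rw [show i.val = 0 by omega, pow_zero]
    obtain ⟨-, q, hq, hqm⟩ := hi (i.val - 1) (by omega)
    have hqv := List.all_eq_true.1 data.1 q hq
    refine ⟨toP q, ?_, ?_⟩
    · show ((toP q * 1 : L) : L ⧸ subH F) = ((1 : L) : L ⧸ subH F)
      rw [QuotientGroup.eq, mul_one, mul_one]
      refine inv_mem ((mem_subH hqv).2 ?_)
      rw [pmem, List.any_eq_true]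
      exact ⟨q, hq, (toP_eq_iff (F := F) hqv hqv).1 rfl⟩
    · show ((toP q * (u * 1) : L) : L ⧸ subH F) = ((u ^ (i : ℕ) : L) : L ⧸ subH F)
      rw [eq_comm, QuotientGroup.eq, mul_one]
      have e : (u ^ (i : ℕ))⁻¹ = (toP (qu (10 - (i.val - 1))) : L) := by
        rw [← hpow, inv_eq_iff_mul_eq_one, ← pow_add, show i.val + (10 - (i.val - 1)) = 11 by omega, hu11]
      rw [e, hu1, ← toP_qmul hqv (hu 1), ← toP_qmul (hu _) (valid_qmul hqv (hu 1)),
        mem_subH (valid_qmul (hu _) (valid_qmul hqv (hu 1)))]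
      exact hqm
  have huo : u • o ≠ o := fun e => by
    have : ((u * 1 : L) : L ⧸ subH F) = ((1 : L) : L ⧸ subH F) := e
    rw [QuotientGroup.eq, mul_one, mul_one, inv_mem_iff] at this
    exact hnotmem 1 le_rfl (by norm_num) (by rwa [pow_one])
  rw [MulAction.is_two_pretransitive_iff]
  have key : ∀ x y : L ⧸ subH F, x ≠ y → ∃ g : L, g • o = x ∧ g • (u • o) = y := by
    intro x y hxy
    obtain ⟨g, rfl⟩ := MulAction.exists_smul_eq L o x
    obtain ⟨h, h1, h2⟩ := hstab (g⁻¹ • y) (fun e => hxy (inv_smul_eq_iff.1 e).symm)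
    exact ⟨g * h, by rw [mul_smul, h1], by rw [mul_smul, h2, smul_inv_smul]⟩
  intro a c d e hac hde
  obtain ⟨g1, g1a, g1c⟩ := key a c hac
  obtain ⟨g2, g2d, g2e⟩ := key d e hde
  refine ⟨g2 * g1⁻¹, ?_, ?_⟩
  · rw [mul_smul, ← g1a, inv_smul_smul, g2d]
  · rw [mul_smul, ← g1c, inv_smul_smul, g2e]

end CfsgLib.PSLEleven
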