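import Mathlib

/-!
# Coded computations in `PSL(2, 11)`

Elements are quadruples of residues below eleven of determinant one, read up to sign.
-/

set_option autoImplicit false

namespace CfsgLib.PSLEleven

/-- A coded matrix. -/
abbrev Code := ℕ × ℕ × ℕ × ℕ

/-- Product of coded matrices. -/
def qmul : Code → Code → Code
  | (a, b, c, d), (e, f, g, h) =>
    ((a * e + b * g) % 11, (a * f + b * h) % 11, (c * e + d * g) % 11, (c * f + d * h) % 11)

/-- The negative of a coded matrix. -/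
def qneg : Code → Code
  | (a, b, c, d) => ((11 - a) % 11, (11 - b) % 11, (11 - c) % 11, (11 - d) % 11)

/-- The adjugate of a coded matrix. -/
def qinv : Code → Code
  | (a, b, c, d) => (d, (11 - b) % 11, (11 - c) % 11, a)

/-- Validity of a code. -/
def valid : Code → Bool
  | (a, b, c, d) =>
    Nat.blt a 11 && Nat.blt b 11 && Nat.blt c 11 && Nat.blt d 11 && Nat.beq ((a * d + (11 - b) * c) % 11) 1

/-- Equality of codes. -/
def qeq : Code → Code → Bool
  | (a, b, c, d), (e, f, g, h) => Nat.beq a e && Nat.beq b f && Nat.beq c g && Nat.beq d h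

/-- Equality up to sign. -/
def peq (x y : Code) : Bool := qeq x y || qeq x (qneg y)

/-- Membership up to sign. -/
def pmem (x : Code) (l : List Code) : Bool := l.any (peq x)

/-- The identity. -/
def qone : Code := (1, 0, 0, 1)

/-- An element of order three. -/
def qx : Code := (0, 10, 1, 1)

/-- The second generator of the first subgroup. -/
def qy : Code := (0, 2, 5, 3)

/-- The second generator of the second subgroup. -/
def qz : Code := (0, 4, 8, 4)

/-- A translation. -/
def qu (i : ℕ) : Code := (1, i % 11, 0, 1)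

/-- The first subgroup of order sixty. -/
def listH : List Code :=
   [(0, 1, 10, 10), (0, 2, 5, 3), (0, 3, 7, 1), (0, 4, 8, 3), (0, 5, 2, 0),
    (1, 0, 0, 1), (1, 1, 10, 0), (1, 2, 8, 6), (1, 3, 3, 10), (1, 4, 2, 9),
    (1, 5, 7, 3), (1, 6, 5, 9), (1, 7, 6, 10), (1, 8, 4, 0), (1, 9, 1, 10),
    (1, 10, 9, 3), (2, 0, 9, 6), (2, 1, 6, 9), (2, 2, 3, 9), (2, 3, 1, 2),
    (2, 4, 2, 10), (2, 5, 0, 6), (2, 6, 5, 10), (2, 7, 4, 9), (2, 8, 10, 2),
    (2, 9, 8, 9), (2, 10, 7, 8), (3, 0, 5, 4), (3, 1, 2, 1), (3, 2, 10, 7),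
    (3, 3, 1, 5), (3, 4, 0, 4), (3, 5, 9, 8), (3, 6, 4, 1), (3, 7, 3, 0),
    (3, 8, 8, 7), (3, 9, 6, 0), (3, 10, 7, 9), (4, 0, 6, 3), (4, 1, 4, 4),
    (4, 2, 10, 8), (4, 3, 9, 7), (4, 4, 3, 6), (4, 5, 1, 7), (4, 6, 2, 6),
    (4, 7, 0, 3), (4, 8, 8, 8), (4, 9, 5, 6), (4, 10, 7, 4), (5, 0, 9, 9),
    (5, 1, 7, 6), (5, 2, 8, 10), (5, 3, 6, 6), (5, 4, 3, 7), (5, 5, 0, 9),
    (5, 6, 2, 7), (5, 7, 1, 6), (5, 8, 10, 3), (5, 9, 5, 7), (5, 10, 4, 6)]

/-- The second subgroup of order sixty. -/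
def listK : List Code :=
   [(0, 1, 10, 10), (0, 2, 5, 10), (0, 3, 7, 0), (0, 4, 8, 4), (0, 5, 2, 7),
    (1, 0, 0, 1), (1, 1, 10, 0), (1, 2, 5, 0), (1, 3, 3, 10), (1, 4, 2, 9),
    (1, 5, 4, 10), (1, 6, 1, 7), (1, 7, 9, 9), (1, 8, 7, 2), (1, 9, 8, 7),
    (1, 10, 6, 6), (2, 0, 5, 6), (2, 1, 0, 6), (2, 2, 10, 5), (2, 3, 4, 1),
    (2, 4, 2, 10), (2, 5, 3, 8), (2, 6, 1, 9), (2, 7, 9, 10), (2, 8, 6, 8),
    (2, 9, 8, 9), (2, 10, 7, 8), (3, 0, 4, 4), (3, 1, 1, 8), (3, 2, 10, 7),
    (3, 3, 0, 4), (3, 4, 9, 5), (3, 5, 3, 9), (3, 6, 2, 8), (3, 7, 8, 8),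
    (3, 8, 6, 9), (3, 9, 5, 8), (3, 10, 7, 9), (4, 0, 7, 3), (4, 1, 5, 7),
    (4, 2, 10, 8), (4, 3, 9, 7), (4, 4, 4, 7), (4, 5, 2, 0), (4, 6, 1, 10),
    (4, 7, 3, 0), (4, 8, 0, 3), (4, 9, 8, 10), (4, 10, 6, 7), (5, 0, 5, 9),
    (5, 1, 0, 9), (5, 2, 9, 6), (5, 3, 8, 5), (5, 4, 10, 6), (5, 5, 7, 5),
    (5, 6, 4, 5), (5, 7, 2, 3), (5, 8, 3, 5), (5, 9, 1, 2), (5, 10, 6, 10)]

/-- The centralizer of the element of order three. -/
def listC : List Code :=
   [(0, 1, 10, 10), (1, 0, 0, 1), (1, 1, 10, 0), (2, 4, 7, 9), (2, 9, 2, 4),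
    (4, 2, 9, 2)]

/-- All candidates for codes. -/
def tuples : List Code :=
  (List.range 11).flatMap fun a => (List.range 11).flatMap fun b =>
    (List.range 11).flatMap fun c => (List.range 11).map fun d => (a, b, c, d)

/-- Conjugation. -/
def qconj (g x : Code) : Code := qmul (qmul g x) (qinv g)

/-- The two relations of the presentation for the pair `(qx, y)`. -/
def isPartner (y : Code) : Bool :=
  !peq y qone && peq (qmul y (qmul y (qmul y (qmul y y)))) qone && peq (qmul (qmul qx y) (qmul qx y)) qone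

theorem valid_lists : (listH.all valid && listK.all valid && listC.all valid) = true := by decide +kernel

theorem length_lists : listH.length = 60 ∧ listK.length = 60 := by decide +kernel

theorem closed_lists :
    (pmem qone listH && pmem qone listK &&
      listH.all (fun h => pmem (qmul h qx) listH && pmem (qmul h qy) listH) &&
      listK.all (fun h => pmem (qmul h qx) listK && pmem (qmul h qz) listK)) = true := by decide +kernel

theorem relations : (isPartner qy && isPartner qz && !peq qx qone && peq (qmul qx (qmul qx qx)) qone) = true := by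
  decide +kernel

theorem centralizer_list : listC.all (fun c => peq (qconj c qx) qx) = true := by decide +kernel

theorem partners :
    tuples.all (fun y => if valid y && isPartner y then
      listC.any (fun c => pmem (qconj c y) listH || pmem (qconj c y) listK) else true) = true := by
  decide +kernel

theorem not_conjugate :
    tuples.all (fun g => if valid g then !(pmem (qconj g qx) listK && pmem (qconj g qy) listK) else true) = true := by
  decide +kernel

theorem translations :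
    ((List.range 10).all (fun i => !pmem (qu (i + 1)) listH &&
      listH.any (fun h => pmem (qmul (qu (10 - i)) (qmul h (qu 1))) listH)) &&
      !(pmem (qconj (qu 1) qx) listH && pmem (qconj (qu 1) qy) listH) &&
      !(pmem (qconj (qu 1) qx) listK && pmem (qconj (qu 1) qz) listK)) = true := by
  decide +kernel

end CfsgLib.PSLEleven
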