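import Mathlib
import Cfsg.Agent.PSLEleven.Codes
import Cfsg.Agent.TwoThreeFive.Basic
import Cfsg.Agent.SL2Trace.Order
import Cfsg.Agent.Linear.Basic

/-!
# The subgroups `A₅` of `PSL(2, 11)`
-/

set_option autoImplicit false

namespace CfsgLib.PSLEleven

open Matrix CfsgLib.SL2Trace
open scoped MatrixGroups Pointwise

/-- In any group a non-trivial `(2, 3, 5)` pair generates a copy of `A₅`. -/
theorem closure_pair_iso {G : Type*} [Group G] (x y : G) (hx : x ^ 3 = 1) (hy : y ^ 5 = 1)
    (hxy : (x * y) ^ 2 = 1) (hne : x ≠ 1) :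
    Nonempty (Subgroup.closure ({x, y} : Set G) ≃* alternatingGroup (Fin 5)) := by
  obtain ⟨e⟩ := CfsgLib.TwoThreeFive.presented_equiv
  have hrel : ∀ r ∈ CfsgLib.TwoThreeFive.rels, FreeGroup.lift ![x, y] r = 1 := by
    intro r hr
    simp only [CfsgLib.TwoThreeFive.rels, Set.mem_insert_iff, Set.mem_singleton_iff] at hr
    rcases hr with rfl | rfl | rfl <;>
      simp [map_pow, map_mul, FreeGroup.lift_apply_of, hx, hy, hxy]
  let φ := PresentedGroup.toGroup hrel
  have h0 : φ (PresentedGroup.of 0) = x := by simp [φ]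
  have h1 : φ (PresentedGroup.of 1) = y := by simp [φ]
  let ψ : alternatingGroup (Fin 5) →* G := φ.comp e.symm.toMonoidHom
  have hψ : Function.Injective ψ := by
    rw [← MonoidHom.ker_eq_bot_iff]
    haveI : IsSimpleGroup (alternatingGroup (Fin 5)) := inferInstance
    refine (Subgroup.Normal.eq_bot_or_eq_top (MonoidHom.normal_ker ψ)).resolve_right fun h => hne ?_
    have hm : e (PresentedGroup.of 0) ∈ ψ.ker := h ▸ Subgroup.mem_top _
    simpa [ψ, h0] using hm
  have hrange : ψ.range = Subgroup.closure ({x, y} : Set G) := by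
    have hr : ψ.range = φ.range := by
      rw [MonoidHom.range_eq_map, MonoidHom.range_eq_map, ← Subgroup.map_map]
      congr 1
      rw [← MonoidHom.range_eq_map, MonoidHom.range_eq_top]
      exact e.symm.surjective
    rw [hr, MonoidHom.range_eq_map, ← PresentedGroup.closure_range_of CfsgLib.TwoThreeFive.rels,
      MonoidHom.map_closure]
    congr 1
    ext z
    simp [Fin.exists_fin_two, h0, h1, eq_comm]
  exact ⟨((MonoidHom.ofInjective hψ).trans (MulEquiv.subgroupCongr hrange)).symm⟩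

theorem card_alt_five : Nat.card (alternatingGroup (Fin 5)) = 60 := by
  rw [nat_card_alternatingGroup, Nat.card_eq_fintype_card, Fintype.card_fin]
  decide

/-- A subgroup isomorphic to `A₅` is generated by a `(2, 3, 5)` pair. -/
theorem exists_pair {G : Type*} [Group G] (K : Subgroup G) (h : Nonempty (K ≃* alternatingGroup (Fin 5))) :
    ∃ x y : G, x ^ 3 = 1 ∧ y ^ 5 = 1 ∧ (x * y) ^ 2 = 1 ∧ x ≠ 1 ∧ y ≠ 1 ∧
      Subgroup.closure ({x, y} : Set G) = K := by
  obtain ⟨e⟩ := h
  open CfsgLib.TwoThreeFive in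
  have r : xAlt ^ 3 = 1 ∧ yAlt ^ 5 = 1 ∧ (xAlt * yAlt) ^ 2 = 1 ∧ xAlt ≠ 1 ∧ yAlt ≠ 1 := by
    refine ⟨?_, ?_, ?_, ?_, ?_⟩ <;> decide +kernel
  obtain ⟨r1, r2, r3, r4, r5⟩ := r
  let ι : alternatingGroup (Fin 5) →* G := K.subtype.comp e.symm.toMonoidHom
  have hι : Function.Injective ι := Subtype.val_injective.comp e.symm.injective
  set x := ι CfsgLib.TwoThreeFive.xAlt with hxd
  set y := ι CfsgLib.TwoThreeFive.yAlt with hyd
  have hx : x ^ 3 = 1 := by rw [hxd, ← map_pow, r1, map_one]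
  have hy : y ^ 5 = 1 := by rw [hyd, ← map_pow, r2, map_one]
  have hxy : (x * y) ^ 2 = 1 := by rw [hxd, hyd, ← map_mul, ← map_pow, r3, map_one]
  have hne : x ≠ 1 := fun h => r4 (hι (h.trans (map_one ι).symm))
  refine ⟨x, y, hx, hy, hxy, hne, fun h => r5 (hι (h.trans (map_one ι).symm)), ?_⟩
  have hcK : Nat.card K = 60 := by rw [Nat.card_congr e.toEquiv, card_alt_five]
  haveI : Finite K := Nat.finite_of_card_ne_zero (by omega)
  obtain ⟨e'⟩ := closure_pair_iso x y hx hy hxy hne
  refine Subgroup.eq_of_le_of_card_ge ((Subgroup.closure_le K).2 ?_) ?_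
  · rintro z (rfl | rfl) <;> exact (e.symm _).2
  · rw [hcK, Nat.card_congr e'.toEquiv, card_alt_five]

section Field

variable {F : Type*} [Field F]

/-- The cast matrix of a code. -/
def toMat (q : Code) : Matrix (Fin 2) (Fin 2) F := !![(q.1 : F), (q.2.1 : F); (q.2.2.1 : F), (q.2.2.2 : F)]

theorem valid_iff {q : Code} (h : valid q = true) :
    q.1 < 11 ∧ q.2.1 < 11 ∧ q.2.2.1 < 11 ∧ q.2.2.2 < 11 ∧
      (q.1 * q.2.2.2 + (11 - q.2.1) * q.2.2.1) % 11 = 1 := by
  obtain ⟨a, b, c, d⟩ := q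
  simp only [valid, Bool.and_eq_true] at h
  obtain ⟨⟨⟨⟨h1, h2⟩, h3⟩, h4⟩, h5⟩ := h
  exact ⟨Nat.le_of_ble_eq_true h1, Nat.le_of_ble_eq_true h2, Nat.le_of_ble_eq_true h3,
    Nat.le_of_ble_eq_true h4, Nat.eq_of_beq_eq_true h5⟩

variable [CharP F 11]

theorem cast_eleven : (11 : F) = 0 := by exact_mod_cast CharP.cast_eq_zero F 11

theorem cast_mod (n : ℕ) : ((n % 11 : ℕ) : F) = (n : F) :=
  (CharP.natCast_eq_natCast F 11).2 (Nat.mod_modEq n 11)

theorem cast_sub {b : ℕ} (h : b < 11) : ((11 - b : ℕ) : F) = -(b : F) := by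
  rw [Nat.cast_sub h.le, Nat.cast_ofNat, cast_eleven, zero_sub]

theorem det_toMat {q : Code} (h : valid q = true) : (toMat q : Matrix (Fin 2) (Fin 2) F).det = 1 := by
  obtain ⟨-, hb, -, -, h5⟩ := valid_iff h
  have := congrArg (fun n : ℕ => (n : F)) h5
  simp only [cast_mod, Nat.cast_add, Nat.cast_mul, cast_sub hb, Nat.cast_one] at this
  rw [toMat, Matrix.det_fin_two_of]
  linear_combination this

/-- The element of `SL` given by a code (`1` for invalid codes). -/
def toSL (q : Code) : SL(2, F) := if h : valid q = true then ⟨toMat q, det_toMat h⟩ else 1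

/-- The element of `PSL` given by a code. -/
def toP (q : Code) : Matrix.ProjectiveSpecialLinearGroup (Fin 2) F := proj (toSL q)

theorem coe_toSL {q : Code} (h : valid q = true) : ((toSL q : SL(2, F)) : Matrix (Fin 2) (Fin 2) F) = toMat q := by
  simp [toSL, h]

theorem toMat_qmul (x y : Code) : (toMat (qmul x y) : Matrix (Fin 2) (Fin 2) F) = toMat x * toMat y := by
  obtain ⟨a, b, c, d⟩ := x
  obtain ⟨e, f, g, h⟩ := y
  simp [toMat, qmul, Matrix.mul_fin_two, cast_mod]

theorem toMat_qneg {x : Code} (h : valid x = true) : (toMat (qneg x) : Matrix (Fin 2) (Fin 2) F) = -toMat x := by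
  obtain ⟨a, b, c, d⟩ := x
  obtain ⟨h1, h2, h3, h4, -⟩ := valid_iff h
  simp only [toMat, qneg, cast_mod, cast_sub h1, cast_sub h2, cast_sub h3, cast_sub h4]
  ext i j; fin_cases i <;> fin_cases j <;> simp

theorem valid_of_det {q : Code} (h1 : q.1 < 11) (h2 : q.2.1 < 11) (h3 : q.2.2.1 < 11) (h4 : q.2.2.2 < 11)
    (hd : (toMat q : Matrix (Fin 2) (Fin 2) F).det = 1) : valid q = true := by
  obtain ⟨a, b, c, d⟩ := q
  rw [toMat, Matrix.det_fin_two_of] at hd
  have : (((a * d + (11 - b) * c) % 11 : ℕ) : F) = ((1 : ℕ) : F) := by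
    simp only [cast_mod, Nat.cast_add, Nat.cast_mul, cast_sub h2, Nat.cast_one]
    linear_combination hd
  have h5 : (a * d + (11 - b) * c) % 11 = 1 := by
    have := (CharP.natCast_eq_natCast F 11).1 this
    rw [Nat.ModEq, Nat.mod_mod] at this
    exact this
  simp only [valid, Bool.and_eq_true]
  exact ⟨⟨⟨⟨Nat.ble_eq_true_of_le h1, Nat.ble_eq_true_of_le h2⟩, Nat.ble_eq_true_of_le h3⟩,
    Nat.ble_eq_true_of_le h4⟩, by rw [Nat.beq_eq]; exact h5⟩

theorem valid_qmul {x y : Code} (hx : valid x = true) (hy : valid y = true) : valid (qmul x y) = true := by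
  haveI : Fact (Nat.Prime 11) := ⟨by norm_num⟩
  refine valid_of_det (F := ZMod 11) ?_ ?_ ?_ ?_ ?_
  iterate 4 exact Nat.mod_lt _ (by norm_num)
  rw [toMat_qmul, Matrix.det_mul, det_toMat hx, det_toMat hy, one_mul]

theorem valid_qneg {x : Code} (hx : valid x = true) : valid (qneg x) = true := by
  haveI : Fact (Nat.Prime 11) := ⟨by norm_num⟩
  refine valid_of_det (F := ZMod 11) ?_ ?_ ?_ ?_ ?_
  iterate 4 exact Nat.mod_lt _ (by norm_num)
  rw [toMat_qneg hx, Matrix.det_neg, det_toMat hx, Fintype.card_fin]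
  norm_num

theorem valid_qinv {x : Code} (hx : valid x = true) : valid (qinv x) = true := by
  haveI : Fact (Nat.Prime 11) := ⟨by norm_num⟩
  obtain ⟨a, b, c, d⟩ := x
  obtain ⟨h1, h2, h3, h4, -⟩ := valid_iff hx
  have hd := det_toMat (F := ZMod 11) hx
  refine valid_of_det (F := ZMod 11) h4 (Nat.mod_lt _ (by norm_num)) (Nat.mod_lt _ (by norm_num)) h1 ?_
  simp only [toMat, qinv, Matrix.det_fin_two_of, cast_mod, cast_sub h2, cast_sub h3] at hd ⊢
  linear_combination hd

theorem toP_qmul {x y : Code} (hx : valid x = true) (hy : valid y = true) :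
    (toP (qmul x y) : Matrix.ProjectiveSpecialLinearGroup (Fin 2) F) = toP x * toP y := by
  have : (toSL (qmul x y) : SL(2, F)) = toSL x * toSL y := Subtype.ext (by
    rw [coe_toSL (valid_qmul hx hy), Matrix.SpecialLinearGroup.coe_mul, coe_toSL hx, coe_toSL hy, toMat_qmul])
  rw [toP, this]
  rfl

theorem toP_qneg {x : Code} (hx : valid x = true) :
    (toP (qneg x) : Matrix.ProjectiveSpecialLinearGroup (Fin 2) F) = toP x := by
  have : (toSL (qneg x) : SL(2, F)) = -toSL x := Subtype.ext (by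
    rw [coe_toSL (valid_qneg hx), Matrix.SpecialLinearGroup.coe_neg, coe_toSL hx, toMat_qneg hx])
  rw [toP, this]
  exact proj_neg _

theorem toP_qone : (toP qone : Matrix.ProjectiveSpecialLinearGroup (Fin 2) F) = 1 := by
  have : (toSL qone : SL(2, F)) = 1 := Subtype.ext (by
    rw [coe_toSL (by rfl)]
    ext i j; fin_cases i <;> fin_cases j <;> simp [toMat, qone])
  rw [toP, this]
  exact (proj_eq_one_iff 1).2 (Or.inl rfl)

theorem toP_qinv {x : Code} (hx : valid x = true) :
    (toP (qinv x) : Matrix.ProjectiveSpecialLinearGroup (Fin 2) F) = (toP x)⁻¹ := by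
  have : (toSL (qinv x) : SL(2, F)) = (toSL x)⁻¹ := Subtype.ext (by
    rw [coe_toSL (valid_qinv hx), Matrix.SpecialLinearGroup.coe_inv, coe_toSL hx, Matrix.adjugate_fin_two]
    obtain ⟨a, b, c, d⟩ := x
    obtain ⟨-, h2, h3, -, -⟩ := valid_iff hx
    simp only [toMat, qinv, cast_mod, cast_sub h2, cast_sub h3]
    ext i j; fin_cases i <;> fin_cases j <;> simp)
  rw [toP, this]
  rfl

theorem toP_qconj {g x : Code} (hg : valid g = true) (hx : valid x = true) :
    (toP (qconj g x) : Matrix.ProjectiveSpecialLinearGroup (Fin 2) F) = toP g * toP x * (toP g)⁻¹ := by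
  rw [qconj, toP_qmul (valid_qmul hg hx) (valid_qinv hg), toP_qmul hg hx, toP_qinv hg]

theorem valid_qconj {g x : Code} (hg : valid g = true) (hx : valid x = true) : valid (qconj g x) = true :=
  valid_qmul (valid_qmul hg hx) (valid_qinv hg)

theorem qeq_iff {x y : Code} : qeq x y = true ↔ x = y := by
  obtain ⟨a, b, c, d⟩ := x
  obtain ⟨e, f, g, h⟩ := y
  simp only [qeq, Bool.and_eq_true, Nat.beq_eq, Prod.mk.injEq, and_assoc]

theorem toP_eq_iff {x y : Code} (hx : valid x = true) (hy : valid y = true) :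
    (toP x : Matrix.ProjectiveSpecialLinearGroup (Fin 2) F) = toP y ↔ peq x y = true := by
  rw [peq, Bool.or_eq_true, qeq_iff, qeq_iff]
  constructor
  · intro h
    have inj : ∀ {u v : Code}, valid u = true → valid v = true → (toSL u : SL(2, F)) = toSL v → u = v := by
      intro u v hu hv e
      obtain ⟨u1, u2, u3, u4, -⟩ := valid_iff hu
      obtain ⟨v1, v2, v3, v4, -⟩ := valid_iff hv
      have e' := congrArg (fun M : SL(2, F) => (M : Matrix (Fin 2) (Fin 2) F)) e
      simp only [coe_toSL hu, coe_toSL hv] at e'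
      have key : ∀ {s t : ℕ}, s < 11 → t < 11 → (s : F) = t → s = t := fun hs ht e =>
        Nat.ModEq.eq_of_lt_of_lt ((CharP.natCast_eq_natCast F 11).1 e) hs ht
      obtain ⟨a, b, c, d⟩ := u
      obtain ⟨e₁, f, g, h'⟩ := v
      have q1 := congrFun (congrFun e' 0) 0
      have q2 := congrFun (congrFun e' 0) 1
      have q3 := congrFun (congrFun e' 1) 0
      have q4 := congrFun (congrFun e' 1) 1
      simp [toMat] at q1 q2 q3 q4
      simp only [Prod.mk.injEq]
      exact ⟨key u1 v1 q1, key u2 v2 q2, key u3 v3 q3, key u4 v4 q4⟩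
    have h' : proj ((toSL y : SL(2, F))⁻¹ * toSL x) = 1 := by
      show QuotientGroup.mk' _ _ = 1
      rw [map_mul, map_inv]
      exact inv_mul_eq_one.2 h.symm
    rcases (proj_eq_one_iff _).1 h' with e | e
    · exact Or.inl (inj hx hy (inv_mul_eq_one.1 e).symm)
    · refine Or.inr (inj hx (valid_qneg hy) ?_)
      rw [inv_mul_eq_iff_eq_mul.1 e]
      refine Subtype.ext ?_
      rw [coe_toSL (valid_qneg hy), toMat_qneg hy, Matrix.SpecialLinearGroup.coe_mul,
        Matrix.SpecialLinearGroup.coe_neg, coe_toSL hy]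
      simp
  · rintro (rfl | rfl)
    · rfl
    · exact toP_qneg hy

theorem toP_eq_one_iff {x : Code} (hx : valid x = true) :
    (toP x : Matrix.ProjectiveSpecialLinearGroup (Fin 2) F) = 1 ↔ peq x qone = true := by
  rw [← toP_qone, toP_eq_iff hx (by rfl)]

/-- The set of the elements coded by a list. -/
def pset (l : List Code) : Set (Matrix.ProjectiveSpecialLinearGroup (Fin 2) F) :=
  {z | ∃ q ∈ l, toP q = z}

theorem toP_mem_pset {x : Code} (hx : valid x = true) {l : List Code} (hl : l.all valid = true) :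
    (toP x : Matrix.ProjectiveSpecialLinearGroup (Fin 2) F) ∈ pset l ↔ pmem x l = true := by
  rw [pmem, List.any_eq_true]
  constructor
  · rintro ⟨q, hq, e⟩
    exact ⟨q, hq, (toP_eq_iff hx (List.all_eq_true.1 hl q hq)).1 e.symm⟩
  · rintro ⟨q, hq, e⟩
    exact ⟨q, hq, ((toP_eq_iff hx (List.all_eq_true.1 hl q hq)).2 e).symm⟩

theorem mem_tuples {q : Code} (h : valid q = true) : q ∈ tuples := by
  obtain ⟨a, b, c, d⟩ := q
  obtain ⟨h1, h2, h3, h4, -⟩ := valid_iff h
  simp only [tuples, List.mem_flatMap, List.mem_map, List.mem_range]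
  exact ⟨a, h1, b, h2, c, h3, d, h4, rfl⟩

variable [Fintype F]

theorem exists_code (hF : Fintype.card F = 11) (g : Matrix.ProjectiveSpecialLinearGroup (Fin 2) F) :
    ∃ q, valid q = true ∧ toP q = g := by
  obtain ⟨M, rfl⟩ := proj_surjective g
  haveI : Fact (Nat.Prime 11) := ⟨by norm_num⟩
  let e : ZMod 11 ≃+* F := ZMod.ringEquivOfPrime F (by norm_num) hF
  have he : ∀ t : F, (((e.symm t).val : ℕ) : F) = t := fun t => by
    rw [← map_natCast e, ZMod.natCast_zmod_val, e.apply_symm_apply]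
  set q : Code := ((e.symm (M 0 0)).val, (e.symm (M 0 1)).val, (e.symm (M 1 0)).val, (e.symm (M 1 1)).val)
    with hq
  have hm : (toMat q : Matrix (Fin 2) (Fin 2) F) = M.1 := by
    ext i j; fin_cases i <;> fin_cases j <;> simp [toMat, hq, he]
  have hv : valid q = true :=
    valid_of_det (F := F) (ZMod.val_lt (e.symm (M 0 0))) (ZMod.val_lt (e.symm (M 0 1)))
      (ZMod.val_lt (e.symm (M 1 0))) (ZMod.val_lt (e.symm (M 1 1)))
      (by rw [hm]; exact M.2)
  exact ⟨q, hv, congrArg proj (Subtype.ext ((coe_toSL hv).trans hm))⟩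

theorem card_psl (hF : Fintype.card F = 11) :
    Nat.card (Matrix.ProjectiveSpecialLinearGroup (Fin 2) F) = 660 := by
  have h := CfsgLib.Linear.card_PSL_two_odd (F := F) (by rw [hF]; decide)
  rw [hF] at h
  omega

end Field

end CfsgLib.PSLEleven
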